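import Groth.Agent.Lib.ExchangeFP29.FieldPoint
import Groth.Agent.H2.FibreDimPullback
import Groth.Agent.Lib.FibreDim.Global
import Groth.Agent.Lib.Snapper.Chi
import Groth.Agent.Lib.TensorMod.Invertible
import Groth.Agent.Lib.TensorMod.FPConv
import Groth.Agent.Lib.Cube.FamCx
import Groth.Prelude.Def_AbDual

/-!
# Euler characteristics of a module algebraically trivial on a geometric fibre
-/

set_option autoImplicit false
set_option linter.style.haveILetI false
set_option backward.isDefEq.respectTransparency false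
universe u

open CategoryTheory CategoryTheory.Limits AlgebraicGeometry TopologicalSpace

namespace Groth.Agent.Lib.AlgTriv27

open Groth.Agent Groth.Agent.Lib

/-- Fibre dimensions are unchanged by base change. -/
theorem dim_baseChange {X Y X' Y' : Scheme.{u}} (f : X ⟶ Y) (f' : X' ⟶ Y') (g' : X' ⟶ X)
    (g : Y' ⟶ Y) [LocallyOfFiniteType f] (sq : IsPullback g' f' f g) (y' : Y') :
    topologicalKrullDim ↥(f'.fiber y') = topologicalKrullDim ↥(f.fiber (g y')) := by
  have : LocallyOfFiniteType f' := MorphismProperty.of_isPullback sq ‹_›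
  have key : ∀ m : ℕ, (m : WithBot ℕ∞) ≤ topologicalKrullDim ↥(f'.fiber y') ↔
      (m : WithBot ℕ∞) ≤ topologicalKrullDim ↥(f.fiber (g y')) := fun m => by
    rw [Lib.FibreDim.Global.le_topologicalKrullDim_fiber_iff,
      Lib.FibreDim.Global.le_topologicalKrullDim_fiber_iff]
    constructor
    · rintro ⟨x', hx', hm⟩
      refine ⟨g' x', ?_, (Groth.Agent.H2.FibreDimPullback.fibreDimAt_of_isPullback sq x') ▸ hm⟩
      rw [← hx', ← Scheme.Hom.comp_apply, sq.w, Scheme.Hom.comp_apply]
    · rintro ⟨x, hx, hm⟩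
      obtain ⟨z, hz1, hz2⟩ := Scheme.Pullback.exists_preimage_pullback (f := f) (g := g) x y' hx
      refine ⟨sq.isoPullback.inv z, ?_, ?_⟩
      · rw [← Scheme.Hom.comp_apply, sq.isoPullback_inv_snd, hz2]
      · rw [Groth.Agent.H2.FibreDimPullback.fibreDimAt_of_isPullback sq, ← Scheme.Hom.comp_apply,
          sq.isoPullback_inv_fst, hz1]
        exact hm
  revert key
  generalize topologicalKrullDim ↥(f'.fiber y') = a
  generalize topologicalKrullDim ↥(f.fiber (g y')) = b
  intro key
  cases a with
  | bot => cases b with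
    | bot => rfl
    | coe b => simpa using (key 0).2 (WithBot.coe_le_coe.2 zero_le)
  | coe a => cases b with
    | bot => simpa using (key 0).1 (WithBot.coe_le_coe.2 zero_le)
    | coe b =>
      congr 1
      exact eq_of_forall_le_iff fun m => by
        cases m with
        | top =>
          constructor <;> intro h <;> refine (ENat.eq_top_iff_forall_ge.2 fun n => ?_).ge
          · exact WithBot.coe_le_coe.1 ((key n).1 (WithBot.coe_le_coe.2 (le_trans le_top h)))
          · exact WithBot.coe_le_coe.1 ((key n).2 (WithBot.coe_le_coe.2 (le_trans le_top h)))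
        | coe m =>
          exact WithBot.coe_le_coe.symm.trans ((key m).trans WithBot.coe_le_coe)

noncomputable section

theorem qcoh {X : Scheme.{u}} {D : X.Modules} (hD : PicF.IsInvertible D) : D.IsQuasicoherent :=
  Modules.AffineSections.isQCoh_of_isFinLocFree
    (TensorMod.LocFree.of_rank (TensorMod.LocFree.of_isInvertible hD))

theorem isFP {X : Scheme.{u}} {D : X.Modules} (hD : PicF.IsInvertible D) : CohB1.IsFP D :=
  TensorMod.FPConv.isFP_of_isFinLocFree (TensorMod.LocFree.of_rank (TensorMod.LocFree.of_isInvertible hD))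

variable {Y T : Scheme.{u}} (g : Y ⟶ T) [IsProper g] [Flat g] [LocallyOfFinitePresentation g]

/-- A geometric fibre sees the fibre ranks. -/
theorem finrank_HH {k : Type u} [Field k] {X : Scheme.{u}} (pX : X ⟶ Spec (CommRingCat.of k))
    (σ : Spec (CommRingCat.of k) ⟶ T) (g' : X ⟶ Y) (hsq : IsPullback g' pX g σ) {W : Y.Modules}
    (hW : PicF.IsInvertible W) (p : ℕ) :
    letI : X.Over (Spec (CommRingCat.of k)) := ⟨pX⟩
    Module.finrank k (Coh.HH X ((Scheme.Modules.pullback g').obj W) p) =
      CohIII.fiberRank g W p (σ (IsLocalRing.closedPoint k)) :=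
  haveI := qcoh hW
  ExchangeFP29.FieldPoint.finrank_HH_eq g W (isFP hW) (Cube.FamCx.isFlatOver_of_isInvertible g hW) pX σ g' hsq p

omit g in
/-- The fibre ranks of a family over a field at a rational point are those of the slice. -/
theorem slice_rank (k : Type u) [Field k] (X : Scheme.{u}) [X.Over (Spec (CommRingCat.of k))]
    [IsProper (X ↘ Spec (CommRingCat.of k))] [Flat (X ↘ Spec (CommRingCat.of k))]
    [LocallyOfFinitePresentation (X ↘ Spec (CommRingCat.of k))]
    {T' : Scheme.{u}} (q : T' ⟶ Spec (CommRingCat.of k)) (M : (Pic13.prodK k X q).Modules)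
    (hM : PicF.IsInvertible M) (s : Spec (CommRingCat.of k) ⟶ T') (hs : s ≫ q = 𝟙 _) (p : ℕ) :
    CohIII.fiberRank (pullback.snd (X ↘ Spec (CommRingCat.of k)) q) M p (s (IsLocalRing.closedPoint k)) =
      Module.finrank k (Coh.HH X (Pic13.fibreMod k X q s hs M) p) := by
  have hfst : Pic13.sliceAt k X q s hs ≫ pullback.fst (X ↘ Spec (CommRingCat.of k)) q = 𝟙 X :=
    pullback.lift_fst _ _ _
  have hsnd : Pic13.sliceAt k X q s hs ≫ pullback.snd (X ↘ Spec (CommRingCat.of k)) q =
      (X ↘ Spec (CommRingCat.of k)) ≫ s := pullback.lift_snd _ _ _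
  have hsl : IsPullback (Pic13.sliceAt k X q s hs) (X ↘ Spec (CommRingCat.of k))
      (pullback.snd (X ↘ Spec (CommRingCat.of k)) q) s := by
    refine IsPullback.of_right ?_ hsnd (IsPullback.of_hasPullback (X ↘ Spec (CommRingCat.of k)) q)
    rw [hfst, hs]
    exact IsPullback.of_horiz_isIso ⟨by simp⟩
  exact (finrank_HH (pullback.snd (X ↘ Spec (CommRingCat.of k)) q) (X ↘ Spec (CommRingCat.of k)) s _ hsl hM p).symm

omit g in
/-- Constancy of the Euler characteristic along an algebraic deformation. -/
theorem exists_ranks (k : Type u) [Field k] (X : Scheme.{u}) [X.Over (Spec (CommRingCat.of k))]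
    [IsProper (X ↘ Spec (CommRingCat.of k))] [Flat (X ↘ Spec (CommRingCat.of k))]
    [LocallyOfFinitePresentation (X ↘ Spec (CommRingCat.of k))]
    {L : X.Modules} (h : Pic13.IsAlgEquivZero k X L) :
    (∑ᶠ p : ℕ, (-1 : ℤ) ^ p * (Module.finrank k (Coh.HH X L p) : ℤ)) =
      ∑ᶠ p : ℕ, (-1 : ℤ) ^ p * (Module.finrank k (Coh.HH X (Coh.structureModule X) p) : ℤ) := by
  obtain ⟨T', q, hconn, hlft, hqc, M, hM, t₁, t₀, h₁, h₀, ⟨e₁⟩, ⟨e₀⟩⟩ := h
  haveI := hconn
  haveI := qcoh hM
  have hc : IsLocallyConstant fun s : T' => PerfAux.eulerChar (pullback.snd (X ↘ Spec (CommRingCat.of k)) q) M s :=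
    ExchangeFP29.Main.isLocallyConstant_eulerChar _ M (isFP hM) (Cube.FamCx.isFlatOver_of_isInvertible _ hM)
  calc _ = PerfAux.eulerChar (pullback.snd (X ↘ Spec (CommRingCat.of k)) q) M (t₁ (IsLocalRing.closedPoint k)) :=
        finsum_congr fun p => by
          rw [← (Curves.LES.isoK k e₁ p).finrank_eq, ← slice_rank k X q M hM t₁ h₁ p]; rfl
    _ = PerfAux.eulerChar (pullback.snd (X ↘ Spec (CommRingCat.of k)) q) M (t₀ (IsLocalRing.closedPoint k)) :=
        hc.apply_eq_of_preconnectedSpace _ _
    _ = _ := finsum_congr fun p => by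
          rw [← (Curves.LES.isoK k e₀ p).finrank_eq, ← slice_rank k X q M hM t₀ h₀ p]; rfl

theorem eulerChar_eq_of_point (L : Y.Modules) (hL : PicF.IsInvertible L) (t : T)
    {Ω : Type u} [Field Ω] (σ : Spec (CommRingCat.of Ω) ⟶ T) (hσ : σ (IsLocalRing.closedPoint Ω) = t)
    (h1 : @Pic13.IsAlgEquivZero Ω _ (pullback g σ) ⟨pullback.snd g σ⟩
      ((Scheme.Modules.pullback (pullback.fst g σ)).obj L)) :
    PerfAux.eulerChar g L t = PerfAux.eulerChar g (Coh.structureModule Y) t := by
  letI : (pullback g σ).Over (Spec (CommRingCat.of Ω)) := ⟨pullback.snd g σ⟩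
  haveI : IsProper (pullback g σ ↘ Spec (CommRingCat.of Ω)) := inferInstanceAs (IsProper (pullback.snd g σ))
  haveI : Flat (pullback g σ ↘ Spec (CommRingCat.of Ω)) := inferInstanceAs (Flat (pullback.snd g σ))
  haveI : LocallyOfFinitePresentation (pullback g σ ↘ Spec (CommRingCat.of Ω)) :=
    inferInstanceAs (LocallyOfFinitePresentation (pullback.snd g σ))
  have h2 := exists_ranks Ω (pullback g σ) h1
  have hO := PicLoc.isInvertible_structureModule Y
  have key : ∀ (W : Y.Modules), PicF.IsInvertible W → ∀ p : ℕ,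
      Module.finrank Ω (Coh.HH (pullback g σ) ((Scheme.Modules.pullback (pullback.fst g σ)).obj W) p) =
        CohIII.fiberRank g W p t := fun W hW p => by
    rw [← hσ]
    exact finrank_HH g (pullback.snd g σ) σ _ (IsPullback.of_hasPullback g σ) hW p
  refine Eq.trans (finsum_congr fun p => ?_) (h2.trans (finsum_congr fun p => ?_))
  · show (-1 : ℤ) ^ p * (CohIII.fiberRank g L p t : ℤ) = _
    rw [← key L hL p]
  · show _ = (-1 : ℤ) ^ p * (CohIII.fiberRank g (Coh.structureModule Y) p t : ℤ)
    rw [← key _ hO p,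
      (Curves.LES.isoK Ω (PicLoc.pullbackStructureIso (pullback.fst g σ)) p).finrank_eq]

theorem range_point {K : Type u} [Field K] (σ : Spec (CommRingCat.of K) ⟶ T) :
    Set.range σ.base = {σ (IsLocalRing.closedPoint K)} := by
  ext z
  constructor
  · rintro ⟨w, rfl⟩
    rw [Subsingleton.elim (α := PrimeSpectrum K) w (IsLocalRing.closedPoint K)]
    exact rfl
  · rintro rfl
    exact ⟨IsLocalRing.closedPoint K, rfl⟩

theorem eulerChar_eq (L : Y.Modules) (hL : PicF.IsInvertible L) (t : T)
    (h0 : AbDual.IsAlgTrivialAt g L t) :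
    PerfAux.eulerChar g L t = PerfAux.eulerChar g (Coh.structureModule Y) t := by
  have hσ : (Spec.map (CommRingCat.ofHom (algebraMap (T.residueField t) (AlgebraicClosure (T.residueField t)))) ≫
      T.fromSpecResidueField t) (IsLocalRing.closedPoint (AlgebraicClosure (T.residueField t))) = t :=
    Scheme.fromSpecResidueField_apply t _
  exact eulerChar_eq_of_point g L hL t _ hσ (h0 _ _ ((range_point _).trans (by rw [hσ])))

omit [Flat g] [LocallyOfFinitePresentation g] in
theorem eulerChar_eq_eulerCharLE (W : Y.Modules) (t : T)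
    (hd : topologicalKrullDim ↥(g.fiber t) ≤ ((1 : ℕ) : WithBot ℕ∞)) :
    letI : (g.fiber t).Over (Spec (CommRingCat.of (T.residueField t))) := ⟨g.fiberToSpecResidueField t⟩
    PerfAux.eulerChar g W t =
      FGA.eulerCharLE (T.residueField t) (g.fiber t) ((Scheme.Modules.pullback (g.fiberι t)).obj W) 1 := by
  letI : (g.fiber t).Over (Spec (CommRingCat.of (T.residueField t))) := ⟨g.fiberToSpecResidueField t⟩
  haveI : IsProper (g.fiberToSpecResidueField t) := inferInstanceAs (IsProper (pullback.snd g _))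
  haveI : IsLocallyNoetherian (g.fiber t) :=
    LocallyOfFiniteType.isLocallyNoetherian (g.fiberToSpecResidueField t)
  haveI : CompactSpace (g.fiber t) := QuasiCompact.compactSpace_of_compactSpace (g.fiberToSpecResidueField t)
  haveI : IsNoetherian (g.fiber t) := {}
  unfold PerfAux.eulerChar FGA.eulerCharLE
  rw [finsum_eq_sum_of_support_subset _ (s := Finset.range 2)]
  · rfl
  · intro i hi
    by_contra hc
    simp only [Finset.coe_range, Set.mem_Iio, not_lt] at hc
    haveI := Snapper.Chi.subsingleton_HH_of_lt hd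
      ((Scheme.Modules.pullback (g.fiberι t)).obj W) (p := i) (by omega)
    apply hi
    show (-1 : ℤ) ^ i * (CohIII.fiberRank g W i t : ℤ) = 0
    rw [show CohIII.fiberRank g W i t = 0 from Module.finrank_zero_of_subsingleton]
    simp

end

end Groth.Agent.Lib.AlgTriv27
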